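import Cfsg.Prelude.Def_Balance
import Cfsg.Agent.H40.BalanceMap
import Cfsg.Agent.Cores.LBalanceMain

/-!
Odd subgroups normalised by centralisers of 2-subgroups, modulo the odd core: they centralise the
components centralised by the 2-subgroup and normalise every component.
-/

namespace Cfsg.Agent.H42.CS

open Subgroup
open scoped commutatorElement

universe u

section Local

variable {X : Type u} [Group X] [Finite X]

/-- An element commuting with a 2-group modulo the odd core can be lifted into its centralizer. -/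
theorem lift {T : Subgroup X} (hT : IsPGroup 2 ↥T) {x : X}
    (h : ∀ t ∈ T, Commute (Components.qmap 2 X x) (Components.qmap 2 X t)) :
    ∃ c ∈ centralizer (T : Set X), Components.qmap 2 X c = Components.qmap 2 X x := by
  obtain ⟨r, hr, hc⟩ := Cores.exists_mul_mem_centralizer hT Cores.odd_card_oddCore
    (Components.le_normalizer_of_normal _) (x := x) (R := Cfsg.oddCore X) (fun t ht => by
      refine (QuotientGroup.eq_one_iff _).1 ?_
      show Components.qmap 2 X (x * t * x⁻¹ * t⁻¹) = 1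
      rw [map_mul, map_mul, map_mul, map_inv, map_inv, (h t ht).eq, mul_inv_cancel_right,
        mul_inv_cancel])
  refine ⟨r * x, hc, ?_⟩
  rw [map_mul, show Components.qmap 2 X r = 1 from (QuotientGroup.eq_one_iff r).2 hr, one_mul]

/-- An odd subgroup normalised by `C(T)` centralises every component centralised by `T`. -/
theorem comp_centralizes {T W : Subgroup X} (hT : IsPGroup 2 ↥T) (hW : Odd (Nat.card W))
    (hTW : centralizer (T : Set X) ≤ normalizer (W : Set X))
    {L : Subgroup (X ⧸ Cfsg.pPrimeCore 2 X)} (hL : Cfsg.IsComponent L)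
    (hTL : T.map (Components.qmap 2 X) ≤ centralizer (L : Set _)) :
    W.map (Components.qmap 2 X) ≤ centralizer (L : Set _) := by
  haveI : Fact (Nat.Prime 2) := ⟨Nat.prime_two⟩
  have hLW : L ≤ normalizer ((W.map (Components.qmap 2 X) : Subgroup _) : Set _) := fun l hl => by
    obtain ⟨x, rfl⟩ := Components.qmap_surjective l
    obtain ⟨c, hc, hcx⟩ := lift hT (x := x)
      (fun t ht => mem_centralizer_iff.1 (hTL (mem_map_of_mem _ ht)) _ hl)
    rw [← hcx]
    exact le_normalizer_map _ ⟨c, hTW hc, rfl⟩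
  rcases Components.qs_subnormal_le_or_commutator_eq_bot hL.2 (T := L ⊔ W.map (Components.qmap 2 X))
      le_sup_left hL.1.subgroupOf le_sup_right (sup_le hLW le_normalizer) with h | h
  · exfalso
    have h2 : 2 ∣ Nat.card ↥(W.map (Components.qmap 2 X)) :=
      (H40.component_dvd_card_quotient (p := 2) hL).trans (card_dvd_of_le h)
    exact Nat.not_even_iff_odd.2 (hW.of_dvd_nat (card_map_dvd _ _)) (even_iff_two_dvd.2 h2)
  · rw [← commutator_eq_bot_iff_le_centralizer, commutator_comm]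
    exact h

/-- An odd subgroup of `C(a)` normal in `C(a)`, for an involution `a`, modulo the odd core. -/
theorem signalizer {a : X} (ha : a ^ 2 = 1) {W : Subgroup X} (hW : Odd (Nat.card W))
    (hWa : W ≤ centralizer ({a} : Set X)) (hn : centralizer ({a} : Set X) ≤ normalizer (W : Set X)) :
    H40.IsCentralSignalizer 2 (Components.qmap 2 X a) (W.map (Components.qmap 2 X)) where
  pelem := ⟨1, by rw [pow_one, ← map_pow, ha, map_one]⟩
  le_centralizer := by
    rintro _ ⟨w, hw, rfl⟩
    rw [mem_centralizer_singleton_iff, ← map_mul, ← map_mul,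
      mem_centralizer_singleton_iff.1 (hWa hw)]
  normalized := fun v hv => by
    haveI : Fact (Nat.Prime 2) := ⟨Nat.prime_two⟩
    obtain ⟨x, rfl⟩ := Components.qmap_surjective v
    obtain ⟨c, hc, hcx⟩ := lift (T := zpowers a)
      (H40.isPGroup_zpowers (p := 2) ⟨1, by rw [pow_one]; exact ha⟩) (x := x) (fun t ht => by
        obtain ⟨n, rfl⟩ := mem_zpowers_iff.1 ht
        rw [map_zpow]
        exact Commute.zpow_right (mem_centralizer_singleton_iff.1 hv) n)
    rw [H40.centralizer_zpowers_eq] at hc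
    rw [← hcx]
    exact le_normalizer_map _ ⟨c, hn hc, rfl⟩
  coprime := Nat.coprime_two_right.2 (hW.of_dvd_nat (card_map_dvd _ _))

/-- Such a subgroup normalises every component. -/
theorem normalises {a : X} (ha : a ^ 2 = 1) {W : Subgroup X} (hW : Odd (Nat.card W))
    (hWa : W ≤ centralizer ({a} : Set X)) (hn : centralizer ({a} : Set X) ≤ normalizer (W : Set X))
    {L : Subgroup (X ⧸ Cfsg.pPrimeCore 2 X)} (hL : Cfsg.IsComponent L) :
    W.map (Components.qmap 2 X) ≤ normalizer (L : Set _) :=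
  haveI : Fact (Nat.Prime 2) := ⟨Nat.prime_two⟩
  H40.sig_le_normalizer Components.pPrimeCore_quotient_eq_bot (signalizer ha hW hWa hn) hL

/-- An element of such a subgroup centralising all components lies in the odd core. -/
theorem vanish {a : X} (ha : a ^ 2 = 1) {W : Subgroup X} (hW : Odd (Nat.card W))
    (hWa : W ≤ centralizer ({a} : Set X)) (hn : centralizer ({a} : Set X) ≤ normalizer (W : Set X))
    {y : X} (hy : y ∈ W)
    (hL : ∀ L : Subgroup (X ⧸ Cfsg.pPrimeCore 2 X), Cfsg.IsComponent L →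
      Components.qmap 2 X y ∈ centralizer (L : Set _)) :
    y ∈ Cfsg.pPrimeCore 2 X := by
  haveI : Fact (Nat.Prime 2) := ⟨Nat.prime_two⟩
  have hs := signalizer ha hW hWa hn
  have hle : zpowers (Components.qmap 2 X y) ≤ W.map (Components.qmap 2 X) :=
    zpowers_le.2 (mem_map_of_mem _ hy)
  have h := H40.eq_bot_of_centralizes (p := 2) Components.pPrimeCore_quotient_eq_bot
    (hs.coprime.coprime_dvd_left (card_dvd_of_le hle)) (hle.trans (H40.sig_le_centralizer_pCore hs))
    (fun L hL' => zpowers_le.2 (hL L hL'))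
  rw [zpowers_eq_bot] at h
  exact (QuotientGroup.eq_one_iff y).1 h

end Local

variable {G : Type u} [Group G] [Finite G]

/-- The odd core of a subgroup, inside the ambient group. -/
abbrev oc (H : Subgroup G) : Subgroup G := (Cfsg.oddCore ↥H).map H.subtype

omit [Finite G] in
theorem oc_le (H : Subgroup G) : oc H ≤ H := map_subtype_le _

theorem odd_oc (H : Subgroup G) : Odd (Nat.card ↥(oc H)) :=
  Cores.odd_card_oddCore.of_dvd_nat (card_map_dvd _ _)

theorem le_normalizer_oc (H : Subgroup G) : H ≤ normalizer ((oc H : Subgroup G) : Set G) :=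
  Components.le_normalizer_map_subtype _

theorem le_oc {H N : Subgroup G} (hle : N ≤ H) (hn : H ≤ normalizer (N : Set G))
    (hodd : Odd (Nat.card ↥N)) : N ≤ oc H := by
  haveI : (N.subgroupOf H).Normal := (normal_subgroupOf_iff_le_normalizer hle).2 hn
  rw [← Components.map_subgroupOf hle]
  exact map_mono (Cores.le_oddCore (by rwa [Nat.card_congr (subgroupOfEquivOfLe hle).toEquiv]))

/-- The elements of `H` centralising `L` modulo the odd core of `H`. -/
def cent (H : Subgroup G) (L : Subgroup (↥H ⧸ Cfsg.pPrimeCore 2 ↥H)) : Subgroup G :=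
  ((centralizer (L : Set _)).comap (Components.qmap 2 ↥H)).map H.subtype

omit [Finite G] in
theorem mem_cent {H : Subgroup G} {L : Subgroup (↥H ⧸ Cfsg.pPrimeCore 2 ↥H)} {x : G} :
    x ∈ cent H L ↔ ∃ hx : x ∈ H, Components.qmap 2 ↥H ⟨x, hx⟩ ∈ centralizer (L : Set _) := by
  constructor
  · rintro ⟨v, hv, rfl⟩
    exact ⟨v.2, hv⟩
  · rintro ⟨hx, h⟩
    exact ⟨⟨x, hx⟩, h, rfl⟩

omit [Finite G] in
theorem cent_le (H : Subgroup G) (L : Subgroup (↥H ⧸ Cfsg.pPrimeCore 2 ↥H)) : cent H L ≤ H :=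
  map_subtype_le _

omit [Finite G] in
theorem oc_le_cent (H : Subgroup G) (L : Subgroup (↥H ⧸ Cfsg.pPrimeCore 2 ↥H)) :
    oc H ≤ cent H L := by
  rintro _ ⟨v, hv, rfl⟩
  refine ⟨v, ?_, rfl⟩
  show Components.qmap 2 ↥H v ∈ centralizer (L : Set _)
  rw [show Components.qmap 2 ↥H v = 1 from (QuotientGroup.eq_one_iff v).2 hv]
  exact one_mem _

theorem G_centralizes {H T W : Subgroup G} (hTH : T ≤ H) (hWH : W ≤ H) (hT : IsPGroup 2 ↥T)
    (hW : Odd (Nat.card ↥W)) (hn : H ⊓ centralizer (T : Set G) ≤ normalizer (W : Set G))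
    {L : Subgroup (↥H ⧸ Cfsg.pPrimeCore 2 ↥H)} (hL : Cfsg.IsComponent L) (hTc : T ≤ cent H L) :
    W ≤ cent H L := by
  have h := comp_centralizes (T := T.subgroupOf H) (W := W.subgroupOf H)
    (hT.comap_of_injective H.subtype H.subtype_injective)
    (by rwa [Nat.card_congr (subgroupOfEquivOfLe hWH).toEquiv])
    (fun c hc => by
      have hcT : (c : G) ∈ centralizer (T : Set G) := mem_centralizer_iff.2 fun t ht =>
        congrArg Subtype.val (mem_centralizer_iff.1 hc ⟨t, hTH ht⟩ ht)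
      rw [mem_normalizer_iff]
      exact fun v => (mem_normalizer_iff.1 (hn ⟨c.2, hcT⟩)) v)
    hL (by
      rintro _ ⟨t, ht, rfl⟩
      obtain ⟨_, h⟩ := mem_cent.1 (hTc ht)
      exact h)
  exact fun w hw => mem_cent.2 ⟨hWH hw, h ⟨⟨w, hWH hw⟩, hw, rfl⟩⟩

theorem G_normalizes {H W : Subgroup G} {a : G} (haH : a ∈ H) (ha : a ^ 2 = 1)
    (hW : Odd (Nat.card ↥W)) (hle : W ≤ H ⊓ centralizer ({a} : Set G))
    (hn : H ⊓ centralizer ({a} : Set G) ≤ normalizer (W : Set G))
    {L : Subgroup (↥H ⧸ Cfsg.pPrimeCore 2 ↥H)} (hL : Cfsg.IsComponent L) {w : G} (hw : w ∈ W) :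
    Components.qmap 2 ↥H ⟨w, (hle hw).1⟩ ∈ normalizer (L : Set _) := by
  refine normalises (X := ↥H) (a := ⟨a, haH⟩) (Subtype.ext ha) (W := W.subgroupOf H)
    (by rwa [Nat.card_congr (subgroupOfEquivOfLe (hle.trans inf_le_left)).toEquiv]) ?_ ?_ hL
    ⟨⟨w, (hle hw).1⟩, hw, rfl⟩
  · intro v hv
    exact mem_centralizer_singleton_iff.2
      (Subtype.ext (mem_centralizer_singleton_iff.1 (hle hv).2))
  · intro c hc
    rw [mem_normalizer_iff]
    exact fun v => (mem_normalizer_iff.1 (hn ⟨c.2, mem_centralizer_singleton_iff.2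
      (congrArg Subtype.val (mem_centralizer_singleton_iff.1 hc))⟩)) v

theorem G_vanish {H W : Subgroup G} {a : G} (haH : a ∈ H) (ha : a ^ 2 = 1)
    (hW : Odd (Nat.card ↥W)) (hle : W ≤ H ⊓ centralizer ({a} : Set G))
    (hn : H ⊓ centralizer ({a} : Set G) ≤ normalizer (W : Set G)) {y : G} (hy : y ∈ W)
    (hL : ∀ L : Subgroup (↥H ⧸ Cfsg.pPrimeCore 2 ↥H), Cfsg.IsComponent L → y ∈ cent H L) :
    y ∈ oc H := by
  refine ⟨⟨y, (hle hy).1⟩, vanish (X := ↥H) (a := ⟨a, haH⟩) (Subtype.ext ha)
    (W := W.subgroupOf H) (by rwa [Nat.card_congr (subgroupOfEquivOfLe (hle.trans inf_le_left)).toEquiv])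
    ?_ ?_ hy ?_, rfl⟩
  · intro v hv
    exact mem_centralizer_singleton_iff.2
      (Subtype.ext (mem_centralizer_singleton_iff.1 (hle hv).2))
  · intro c hc
    rw [mem_normalizer_iff]
    exact fun v => (mem_normalizer_iff.1 (hn ⟨c.2, mem_centralizer_singleton_iff.2
      (congrArg Subtype.val (mem_centralizer_singleton_iff.1 hc))⟩)) v
  · intro L hL'
    obtain ⟨_, h⟩ := mem_cent.1 (hL L hL')
    exact h

theorem G_commutator {H W A' : Subgroup G} {a : G} (haH : a ∈ H) (ha : a ^ 2 = 1)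
    (hW : Odd (Nat.card ↥W)) (hle : W ≤ H ⊓ centralizer ({a} : Set G))
    (hn : H ⊓ centralizer ({a} : Set G) ≤ normalizer (W : Set G))
    {L : Subgroup (↥H ⧸ Cfsg.pPrimeCore 2 ↥H)} (hL : Cfsg.IsComponent L) (hA : A' ≤ cent H L) :
    ⁅W, A'⁆ ≤ cent H L := by
  refine commutator_le.2 fun w hw d hd => ?_
  rw [commutatorElement_def]
  refine mul_mem ?_ (inv_mem (hA hd))
  obtain ⟨hdH, hdc⟩ := mem_cent.1 (hA hd)
  have hwH := (hle hw).1
  refine mem_cent.2 ⟨mul_mem (mul_mem hwH hdH) (inv_mem hwH), ?_⟩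
  have h := H40.normalizer_le_normalizer_centralizer L (G_normalizes haH ha hW hle hn hL hw)
  exact (mem_normalizer_iff.1 h _).1 hdc

end Cfsg.Agent.H42.CS
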