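import Cfsg.Agent.H42.CoreSep.Local
import Cfsg.Agent.H46.PCompImage
import Cfsg.Agent.Components.GoldschmidtGen
import Cfsg.Agent.S0205

/-!
Goldschmidt's signalizer functor of a pair of core-separated four-subgroups.
-/

namespace Cfsg.Agent.H42.CS

open Subgroup
open scoped commutatorElement

universe u

variable {G : Type u} [Group G] [Finite G]

/-- Every component of `C(u)` modulo its odd core is centralised by `A₁` or by `A₂`. -/
def Sep (A₁ A₂ : Subgroup G) : Prop :=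
  ∀ u ∈ A₁ ⊔ A₂, u ≠ 1 → ∀ L : Subgroup (↥(centralizer ({u} : Set G)) ⧸
      Cfsg.pPrimeCore 2 ↥(centralizer ({u} : Set G))), Cfsg.IsComponent L →
    A₁ ≤ cent (centralizer ({u} : Set G)) L ∨ A₂ ≤ cent (centralizer ({u} : Set G)) L

/-- Two commuting four-groups that separate the components. -/
structure Hyp (A₁ A₂ : Subgroup G) : Prop where
  comm1 : ∀ x ∈ A₁, ∀ y ∈ A₁, x * y = y * x
  comm2 : ∀ x ∈ A₂, ∀ y ∈ A₂, x * y = y * x
  sq1 : ∀ x ∈ A₁, x ^ 2 = 1
  sq2 : ∀ x ∈ A₂, x ^ 2 = 1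
  card1 : Nat.card ↥A₁ = 4
  card2 : Nat.card ↥A₂ = 4
  cross : ∀ x ∈ A₁, ∀ y ∈ A₂, x * y = y * x
  sep : Sep A₁ A₂

namespace Hyp

variable {A₁ A₂ : Subgroup G} (h : Hyp A₁ A₂)

include h

theorem symm : Hyp A₂ A₁ where
  comm1 := h.comm2
  comm2 := h.comm1
  sq1 := h.sq2
  sq2 := h.sq1
  card1 := h.card2
  card2 := h.card1
  cross := fun x hx y hy => (h.cross y hy x hx).symm
  sep := fun u hu hu1 L hL => (h.sep u (sup_comm A₁ A₂ ▸ hu) hu1 L hL).symm

omit [Finite G] in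
theorem sup_le_centralizer : A₁ ⊔ A₂ ≤ centralizer ((A₁ ⊔ A₂ : Subgroup G) : Set G) := by
  refine sup_le ?_ ?_ <;> rw [le_centralizer_iff] <;> refine sup_le ?_ ?_ <;> intro y hy <;>
    refine mem_centralizer_iff.2 fun x hx => ?_
  · exact h.comm1 x hx y hy
  · exact h.cross x hx y hy
  · exact (h.cross y hy x hx).symm
  · exact h.comm2 x hx y hy

omit [Finite G] in
theorem le_cz {a : G} (ha : a ∈ A₁ ⊔ A₂) : A₁ ⊔ A₂ ≤ centralizer ({a} : Set G) := fun _ hx =>
  mem_centralizer_singleton_iff.2 (mem_centralizer_iff.1 (h.sup_le_centralizer ha) _ hx)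

omit [Finite G] in
theorem sup_le_cent1 : A₁ ⊔ A₂ ≤ centralizer (A₁ : Set G) :=
  h.sup_le_centralizer.trans (centralizer_le (SetLike.coe_subset_coe.2 le_sup_left))

omit [Finite G] in
theorem sq {a : G} (ha : a ∈ A₁ ⊔ A₂) : a ^ 2 = 1 := by
  have hn : A₂ ≤ normalizer (A₁ : Set G) :=
    (le_sup_right.trans h.sup_le_cent1).trans (centralizer_le_normalizer _)
  obtain ⟨x, hx, y, hy, rfl⟩ := (Coprime.mem_sup_iff hn).1 ha
  rw [Commute.mul_pow (h.cross x hx y hy), h.sq1 x hx, h.sq2 y hy, one_mul]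

omit [Finite G] in
theorem isPGroup1 : IsPGroup 2 ↥A₁ := fun x =>
  ⟨1, Subtype.ext (by simpa using h.sq1 x x.2)⟩

theorem coprime1 {W : Subgroup G} (hW : Odd (Nat.card ↥W)) :
    (Nat.card ↥A₁).Coprime (Nat.card ↥W) := by
  rw [h.card1, show 4 = 2 ^ 2 from rfl]
  exact Nat.Coprime.pow_left 2 (Nat.coprime_two_left.2 hW)

theorem normalises_core {a : G} (ha : a ∈ A₁ ⊔ A₂) :
    A₁ ⊔ A₂ ≤ normalizer ((oc (centralizer ({a} : Set G)) : Subgroup G) : Set G) :=
  (h.le_cz ha).trans (le_normalizer_oc _)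

/-- A component of the centralizer of `A₁` not centralised by `w ∈ A₂` is centralised by the fixed
elements of `[O(C(a)) ∩ C(u), A₁]`, for `u ∈ A₁`. -/
theorem key_comp {a u w y : G} {H : Subgroup G} (hH : H = centralizer (A₁ : Set G))
    (ha : a ∈ A₁ ⊔ A₂) (hu : u ∈ A₁) (hu1 : u ≠ 1)
    (hy : y ∈ ⁅oc (centralizer ({a} : Set G)) ⊓ centralizer ({u} : Set G), A₁⁆)
    (hyH : y ∈ H) (hw : w ∈ A₂)
    {L : Subgroup (↥H ⧸ Cfsg.pPrimeCore 2 ↥H)}
    (hL : Cfsg.IsComponent L) (hwL : w ∉ cent H L) :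
    y ∈ cent H L := by
  haveI : Fact (Nat.Prime 2) := ⟨Nat.prime_two⟩
  set Hu := centralizer ({u} : Set G) with hHu
  set K := oc (centralizer ({a} : Set G))
  have huA : u ∈ A₁ ⊔ A₂ := mem_sup_left hu
  have hHHu : H ≤ Hu := fun x hx =>
    mem_centralizer_singleton_iff.2 (mem_centralizer_iff.1 (hH.le hx) u hu).symm
  have hA1H : A₁ ≤ H := (le_sup_left.trans h.sup_le_cent1).trans hH.ge
  have hA1Hu : A₁ ≤ Hu := hA1H.trans hHHu
  have hwH : w ∈ H := hH.ge (h.sup_le_cent1 (mem_sup_right hw))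
  have haHu : a ∈ Hu := h.le_cz huA ha
  have hK : Odd (Nat.card ↥(K ⊓ Hu)) := (odd_oc _).of_dvd_nat (card_dvd_of_le inf_le_left)
  have hKle : K ⊓ Hu ≤ Hu ⊓ centralizer ({a} : Set G) :=
    le_inf inf_le_right (inf_le_left.trans (oc_le _))
  have hKn : Hu ⊓ centralizer ({a} : Set G) ≤ normalizer ((K ⊓ Hu : Subgroup G) : Set G) :=
    (le_inf (inf_le_right.trans (le_normalizer_oc _))
      (inf_le_left.trans le_normalizer)).trans inf_normalizer_le_normalizer_inf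
  set qu := Components.qmap 2 ↥Hu
  set w' : ↥Hu := ⟨w, hHHu hwH⟩
  set y' : ↥Hu := ⟨y, hHHu hyH⟩
  have hyM : ∀ M, Cfsg.IsComponent M → A₁ ≤ cent Hu M → qu y' ∈ centralizer (M : Set _) :=
    fun M hM hA => by
      obtain ⟨_, hc⟩ := mem_cent.1 (G_commutator haHu (h.sq ha) hK hKle hKn hM hA hy)
      exact hc
  -- the component of `C(A₁)` inside the 2-layer of `C(u)`
  obtain ⟨E, ⟨hE, hEL⟩, -⟩ := Components.existsUnique_pComponent (p := 2) hL
  set T := A₁.subgroupOf Hu with hT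
  have hTp : IsPGroup 2 ↥T := h.isPGroup1.comap_of_injective Hu.subtype Hu.subtype_injective
  have hmem : ∀ v : ↥H, (⟨(v : G), hHHu v.2⟩ : ↥Hu) ∈ centralizer (T : Set ↥Hu) := fun v =>
    mem_centralizer_iff.2 fun t ht => Subtype.ext (mem_centralizer_iff.1 (hH.le v.2) _ ht)
  let f : ↥H →* ↥(centralizer (T : Set ↥Hu)) :=
    MonoidHom.mk' (fun v => ⟨⟨v, hHHu v.2⟩, hmem v⟩) fun _ _ => rfl
  have hsurj : Function.Surjective f := fun c =>
    ⟨⟨((c : ↥Hu) : G), hH.ge (mem_centralizer_iff.2 fun t ht =>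
      congrArg Subtype.val (mem_centralizer_iff.1 c.2 ⟨t, hA1Hu ht⟩ ht))⟩, rfl⟩
  have hinj : Function.Injective f := fun v v' he =>
    Subtype.ext (congrArg (fun c : ↥(centralizer (T : Set ↥Hu)) => ((c : ↥Hu) : G)) he)
  have hE' : Cfsg.IsPComponent 2 (E.map f) := by
    refine H46.isPComponent_map hE f (hE.1.map hsurj) ?_ ?_
    · rw [(MonoidHom.ker_eq_bot_iff f).2 hinj, bot_inf_eq, card_bot]
      exact Nat.coprime_one_left _
    · rw [← Subgroup.map_map]
      exact (Components.isSubnormal_map_subtype (Subgroup.Normal.isSubnormal inferInstance)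
        hE.1).map hsurj
  have hlay : ∀ e ∈ E, qu ((f e : ↥(centralizer (T : Set ↥Hu))) : ↥Hu) ∈
      Cfsg.layer (↥Hu ⧸ Cfsg.pPrimeCore 2 ↥Hu) := fun e he => by
    rw [← Components.map_pLayer]
    exact mem_map_of_mem _ (Cores.lBalance_two hTp
      ⟨f e, Components.pComponent_le_pLayer hE' (mem_map_of_mem f he), rfl⟩)
  -- the two halves of the layer of `C(u)`
  set N₁ := sSup {M : Subgroup (↥Hu ⧸ Cfsg.pPrimeCore 2 ↥Hu) |
    Cfsg.IsComponent M ∧ A₁ ≤ cent Hu M} with hN₁def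
  set N₂ := sSup {M : Subgroup (↥Hu ⧸ Cfsg.pPrimeCore 2 ↥Hu) |
    Cfsg.IsComponent M ∧ A₂ ≤ cent Hu M} with hN₂def
  have hN1y : N₁ ≤ centralizer ({qu y'} : Set _) := sSup_le fun M hM m hm =>
    mem_centralizer_singleton_iff.2 (mem_centralizer_iff.1 (hyM M hM.1 hM.2) m hm)
  have hN2w : N₂ ≤ centralizer ({qu w'} : Set _) := sSup_le fun M hM m hm => by
    obtain ⟨_, hc⟩ := mem_cent.1 (hM.2 hw)
    exact mem_centralizer_singleton_iff.2 (mem_centralizer_iff.1 hc m hm)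
  have hsum : Cfsg.layer (↥Hu ⧸ Cfsg.pPrimeCore 2 ↥Hu) ≤ N₁ ⊔ N₂ :=
    Components.layer_le_iff.2 fun M hM => by
      rcases h.sep u huA hu1 M hM with hh | hh
      · exact le_sup_of_le_left (le_sSup ⟨hM, hh⟩)
      · exact le_sup_of_le_right (le_sSup ⟨hM, hh⟩)
  have hN2N1 : N₂ ≤ normalizer (N₁ : Set _) := le_normalizer_iff.2 fun g hg n hn => by
    have hg' : g ∈ Cfsg.layer (↥Hu ⧸ Cfsg.pPrimeCore 2 ↥Hu) :=
      (sSup_le fun M hM => Components.component_le_layer hM.1 : N₂ ≤ _) hg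
    have hle : N₁ ≤ N₁.comap (MulAut.conj g).toMonoidHom := sSup_le fun M hM m hm =>
      (le_sSup hM : M ≤ N₁) ((mem_normalizer_iff.1
        (Components.layer_le_normalizer_component hM.1 hg') m).1 hm)
    exact hle hn
  have hwN1 : ∀ n ∈ N₁, qu w' * n * (qu w')⁻¹ ∈ N₁ := fun n hn => by
    have hle : N₁ ≤ N₁.comap (MulAut.conj (qu w')).toMonoidHom := sSup_le fun M hM m hm => by
      refine (le_sSup (show M.map (MulAut.conj (qu w')).toMonoidHom ∈
        {M | Cfsg.IsComponent M ∧ A₁ ≤ cent Hu M} from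
          ⟨Components.component_conj hM.1 _, fun d hd => ?_⟩) : _ ≤ N₁) (mem_map_of_mem _ hm)
      obtain ⟨hd', hc⟩ := mem_cent.1 (hM.2 hd)
      refine mem_cent.2 ⟨hd', mem_centralizer_iff.2 ?_⟩
      rintro _ ⟨m', hm', rfl⟩
      have hdw : Commute (qu ⟨d, hd'⟩) (qu w') :=
        (show Commute (⟨d, hd'⟩ : ↥Hu) w' from Subtype.ext (h.cross d hd w hw)).map qu
      have hdm : Commute (qu ⟨d, hd'⟩) m' := (mem_centralizer_iff.1 hc m' hm').symm
      exact ((hdw.mul_right hdm).mul_right hdw.inv_right).symm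
    exact hle hn
  -- so the commutators of `w` and the component are centralised by `y`
  have hcomm : ∀ l ∈ L, Commute (⁅Components.qmap 2 ↥H ⟨w, hwH⟩, l⁆)
      (Components.qmap 2 ↥H ⟨y, hyH⟩) := by
    intro l hl
    rw [← hEL] at hl
    obtain ⟨e, he, rfl⟩ := hl
    obtain ⟨m₁, hm₁, m₂, hm₂, hm⟩ := (Coprime.mem_sup_iff hN2N1).1 (hsum (hlay e he))
    have h1 : ⁅qu w', m₁ * m₂⁆ ∈ N₁ := by
      rw [show ⁅qu w', m₁ * m₂⁆ =
        (qu w' * m₁ * (qu w')⁻¹) * (qu w' * m₂ * (qu w')⁻¹ * m₂⁻¹) * m₁⁻¹ by group,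
        show qu w' * m₂ = m₂ * qu w' from (mem_centralizer_singleton_iff.1 (hN2w hm₂)).symm,
        mul_inv_cancel_right, mul_inv_cancel, mul_one]
      exact mul_mem (hwN1 _ hm₁) (inv_mem hm₁)
    rw [hm, ← map_commutatorElement] at h1
    have h2 := mem_centralizer_singleton_iff.1 (hN1y h1)
    rw [← commutatorElement_eq_one_iff_mul_comm, ← map_commutatorElement] at h2
    have h3 : ⁅⁅(⟨w, hwH⟩ : ↥H), e⁆, ⟨y, hyH⟩⁆ ∈ Cfsg.pPrimeCore 2 ↥H := by
      have hin : ((⁅⁅(⟨w, hwH⟩ : ↥H), e⁆, ⟨y, hyH⟩⁆ : ↥H) : G) ∈ oc Hu ⊓ H :=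
        ⟨⟨_, (QuotientGroup.eq_one_iff _).1 h2, rfl⟩, SetLike.coe_mem _⟩
      obtain ⟨v, hv, hve⟩ := le_oc inf_le_right
        ((le_inf (hHHu.trans (le_normalizer_oc Hu)) le_normalizer).trans
          inf_normalizer_le_normalizer_inf)
        ((odd_oc Hu).of_dvd_nat (card_dvd_of_le inf_le_left)) hin
      rwa [← show v = ⁅⁅(⟨w, hwH⟩ : ↥H), e⁆, ⟨y, hyH⟩⁆ from Subtype.ext hve]
    refine commutatorElement_eq_one_iff_mul_comm.1 ?_
    rw [← map_commutatorElement, ← map_commutatorElement]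
    exact (QuotientGroup.eq_one_iff _).2 h3
  set qw := Components.qmap 2 ↥H ⟨w, hwH⟩
  set qy := Components.qmap 2 ↥H ⟨y, hyH⟩
  suffices hLS : L ≤ centralizer ({qy} : Set _) from mem_cent.2 ⟨hyH,
    mem_centralizer_iff.2 fun l hl => mem_centralizer_singleton_iff.1 (hLS hl)⟩
  have hS : ∀ l ∈ L, ⁅l, qw⁆ ∈ centralizer ({qy} : Set _) := fun l hl => by
    rw [← commutatorElement_inv]
    exact inv_mem (mem_centralizer_singleton_iff.2 (hcomm l hl).eq)
  have hqw : qw ^ 2 = 1 := by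
    rw [← map_pow, show (⟨w, hwH⟩ : ↥H) ^ 2 = 1 from Subtype.ext (h.sq2 w hw), map_one]
  have hLz : ⁅L, zpowers qw⁆ ≤ centralizer ({qy} : Set _) := commutator_le.2 fun l hl z hz => by
    obtain ⟨i, rfl⟩ := mem_zpowers_iff.1 hz
    have hqw' : qw ^ (2 : ℤ) = 1 := by rw [zpow_two, ← pow_two, hqw]
    rcases Int.even_or_odd i with ⟨k, rfl⟩ | ⟨k, rfl⟩
    · rw [← two_mul, zpow_mul, hqw', one_zpow, commutatorElement_one_right]
      exact one_mem _
    · rw [zpow_add, zpow_mul, hqw', one_zpow, one_mul, zpow_one]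
      exact hS l hl
  by_cases hLL : ⁅L, zpowers qw⁆ = L
  · exact hLL ▸ hLz
  rcases H40.case_of_commutator_ne hL hLL with hc | hn
  · exact absurd (mem_cent.2 ⟨hwH, hc⟩) hwL
  · have hcom := Components.components_commute (Components.component_conj hL qw) hL
      fun e => hn (Coprime.mem_normalizer_of_map_conj e)
    conv_lhs => rw [← Components.component_perfect hL]
    refine commutator_le.2 fun a ha b hb => ?_
    have hab : Commute (qw * a * qw⁻¹) b :=
      Components.commute_of_commutator_eq_bot hcom (mem_map_of_mem _ ha) hb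
    have e : (qw * a * qw⁻¹)⁻¹ * b * (qw * a * qw⁻¹) = b := by
      rw [mul_assoc, ← hab.eq, inv_mul_cancel_left]
    rw [show ⁅a, b⁆ = ⁅a, qw⁆ * ⁅b, qw⁆ * ⁅b * a, qw⁆⁻¹ from ?_]
    · exact mul_mem (mul_mem (hS a ha) (hS b hb)) (inv_mem (hS _ (mul_mem hb ha)))
    · symm
      calc ⁅a, qw⁆ * ⁅b, qw⁆ * ⁅b * a, qw⁆⁻¹
          = a * ((qw * a * qw⁻¹)⁻¹ * b * (qw * a * qw⁻¹)) * a⁻¹ * b⁻¹ := by group
        _ = ⁅a, b⁆ := by rw [e, commutatorElement_def]

/-- The fixed points of `A₁` on `[O(C(a)), A₁]` lie in `O(C(A₁))`. -/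
theorem key {a : G} (ha : a ∈ A₁ ⊔ A₂) :
    ⁅oc (centralizer ({a} : Set G)), A₁⁆ ⊓ centralizer (A₁ : Set G) ≤
      oc (centralizer (A₁ : Set G)) := by
  obtain ⟨H, hH⟩ : ∃ H, H = centralizer (A₁ : Set G) := ⟨_, rfl⟩
  rw [← hH]
  set K := oc (centralizer ({a} : Set G))
  have hAK : A₁ ≤ normalizer (K : Set G) := le_sup_left.trans (h.normalises_core ha)
  have hKodd : Odd (Nat.card ↥K) := odd_oc _
  have hsol : Group.IsSolvable ↥K := Cfsg.Agent.S0205.result hKodd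
  have hcop := h.coprime1 hKodd
  have haH : a ∈ H := hH.ge (h.sup_le_cent1 ha)
  have hW : Odd (Nat.card ↥(K ⊓ H)) := hKodd.of_dvd_nat (card_dvd_of_le inf_le_left)
  have hle : K ⊓ H ≤ H ⊓ centralizer ({a} : Set G) :=
    le_inf inf_le_right (inf_le_left.trans (oc_le _))
  have hn : H ⊓ centralizer ({a} : Set G) ≤ normalizer ((K ⊓ H : Subgroup G) : Set G) :=
    (le_inf (inf_le_right.trans (le_normalizer_oc _))
      (inf_le_left.trans le_normalizer)).trans inf_normalizer_le_normalizer_inf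
  intro x hx
  have hxW : x ∈ K ⊓ H := ⟨Coprime.commutator_le_left_of_normalizer hAK hx.1, hx.2⟩
  refine G_vanish haH (h.sq ha) hW hle hn hxW fun L hL => ?_
  by_cases hA2L : A₂ ≤ cent H L
  · have hA1L : A₁ ≤ cent H L := fun v hv => by
      have hvH : v ∈ H := hH.ge (h.sup_le_cent1 (mem_sup_left hv))
      refine mem_cent.2 ⟨hvH, mem_centralizer_iff.2 fun l _ => ?_⟩
      obtain ⟨l, rfl⟩ := Components.qmap_surjective l
      rw [← map_mul, ← map_mul]
      exact congrArg _ (Subtype.ext (mem_centralizer_iff.1 (hH.le l.2) v hv).symm)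
    refine G_centralizes (T := zpowers a) (zpowers_le.2 haH) inf_le_right
      (H40.isPGroup_zpowers ⟨1, by rw [pow_one]; exact h.sq ha⟩) hW
      (by rw [H40.centralizer_zpowers_eq]; exact hn) hL
      (zpowers_le.2 (sup_le hA1L hA2L ha)) hxW
  · obtain ⟨w, hw, hwL⟩ := SetLike.not_le_iff_exists.1 hA2L
    have hYK : ⁅K, A₁⁆ ≤ K := Coprime.commutator_le_left_of_normalizer hAK
    have hgm := Components.goldschmidt_generation
      (IsMulCommutative.mk ⟨fun p q => Subtype.ext (h.comm1 _ p.2 _ q.2)⟩) (le_refl A₁)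
      (normalizer_commutator_ge_right K A₁) (Coprime.coprime_of_le hYK hcop)
      (Coprime.isSolvable_of_le hYK hsol)
      (Coprime.commutator_commutator_eq hAK hcop (Or.inr hsol))
    have hx' : x ∈ ⁅K, A₁⁆ ⊓ centralizer (A₁ : Set G) := ⟨hx.1, hH.le hx.2⟩
    rw [hgm] at hx'
    refine (iSup₂_le fun B₀ hB₀ y hy => ?_ : Components.gmSig A₁ A₁ ⁅K, A₁⁆ ≤ cent H L) hx'
    obtain ⟨hB₀le, b, hb, hBb⟩ := hB₀
    obtain ⟨u, hu, hu1⟩ : ∃ u ∈ B₀, u ≠ 1 := by
      by_contra hcon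
      push Not at hcon
      have hbot : B₀ = ⊥ := eq_bot_iff.2 fun u hu => mem_bot.2 (hcon u hu)
      rw [hbot, bot_sup_eq] at hBb
      have h4 := h.card1
      rw [← hBb, Nat.card_zpowers] at h4
      have := Nat.le_of_dvd two_pos (orderOf_dvd_of_pow_eq_one (h.sq1 b hb))
      omega
    refine h.key_comp hH ha (hB₀le hu) hu1 (commutator_mono ?_ le_rfl hy.2) (hH.ge hy.1.2) hw hL hwL
    exact le_inf (inf_le_left.trans hYK) (inf_le_right.trans fun v hv =>
      mem_centralizer_singleton_iff.2 (mem_centralizer_iff.1 hv u hu).symm)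

/-- `θ₁(a)`. -/
abbrev th (A : Subgroup G) (a : G) : Subgroup G :=
  ⁅oc (centralizer ({a} : Set G)), A⁆ ⊔ (oc (centralizer ({a} : Set G)) ⊓ oc (centralizer (A : Set G)))

theorem th_le {a : G} (ha : a ∈ A₁ ⊔ A₂) : th A₁ a ≤ oc (centralizer ({a} : Set G)) :=
  sup_le (Coprime.commutator_le_left_of_normalizer (le_sup_left.trans (h.normalises_core ha)))
    inf_le_left

theorem th_invariant {a : G} (ha : a ∈ A₁ ⊔ A₂) :
    A₁ ⊔ A₂ ≤ normalizer ((th A₁ a : Subgroup G) : Set G) := by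
  intro b hb
  have hbK := h.normalises_core ha hb
  have hbA : b ∈ centralizer (A₁ : Set G) := h.sup_le_cent1 hb
  exact Components.inf_normalizer_le_normalizer_sup _ _
    ⟨Coprime.mem_normalizer_commutator hbK (centralizer_le_normalizer _ hbA),
      inf_normalizer_le_normalizer_inf ⟨hbK, le_normalizer_oc _ hbA⟩⟩

/-- The fixed points of `A₁` on `θ₁(a)` lie in `O(C(A₁))`. -/
theorem th_fixed {a : G} (ha : a ∈ A₁ ⊔ A₂) :
    th A₁ a ⊓ centralizer (A₁ : Set G) ≤ oc (centralizer (A₁ : Set G)) := by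
  rintro x ⟨hx, hxC⟩
  obtain ⟨r, hr, o, ho, rfl⟩ := (Coprime.mem_sup_iff
    (inf_le_left.trans (normalizer_commutator_ge_left (oc (centralizer ({a} : Set G))) A₁))).1 hx
  refine mul_mem (h.key ha ⟨hr, ?_⟩) ho.2
  simpa using (centralizer (A₁ : Set G)).mul_mem hxC ((centralizer (A₁ : Set G)).inv_mem (oc_le _ ho.2))

/-- An `A₁`-invariant subgroup of `θ₁(a) ∩ C(b)` centralises the components of `C(b)` centralised
by `A₁`. -/
theorem le_cent_of {a b : G} (ha : a ∈ A₁ ⊔ A₂) (hb : b ∈ A₁ ⊔ A₂) {D : Subgroup G}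
    (hD : D ≤ th A₁ a) (hDb : D ≤ centralizer ({b} : Set G)) (hDn : A₁ ≤ normalizer (D : Set G))
    {L : Subgroup (↥(centralizer ({b} : Set G)) ⧸ Cfsg.pPrimeCore 2 ↥(centralizer ({b} : Set G)))}
    (hL : Cfsg.IsComponent L) (hA : A₁ ≤ cent (centralizer ({b} : Set G)) L) :
    D ≤ cent (centralizer ({b} : Set G)) L := by
  set K := oc (centralizer ({a} : Set G))
  set Hb := centralizer ({b} : Set G)
  have hDK : D ≤ K := hD.trans (h.th_le ha)
  have hDodd : Odd (Nat.card ↥D) := (odd_oc _).of_dvd_nat (card_dvd_of_le hDK)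
  rw [← Coprime.commutator_sup_centralizer hDn (h.coprime1 hDodd)
    (Or.inr (Cfsg.Agent.S0205.result hDodd))]
  refine sup_le ?_ ?_
  · refine (commutator_mono (le_inf hDK hDb) le_rfl).trans
      (G_commutator (W := K ⊓ Hb) (h.le_cz hb ha) (h.sq ha)
        ((odd_oc _).of_dvd_nat (card_dvd_of_le inf_le_left))
        (le_inf inf_le_right (inf_le_left.trans (oc_le _))) ?_ hL hA)
    exact (le_inf (inf_le_right.trans (le_normalizer_oc _))
      (inf_le_left.trans le_normalizer)).trans inf_normalizer_le_normalizer_inf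
  · refine (le_inf ((inf_le_inf hD le_rfl).trans (h.th_fixed ha)) (inf_le_left.trans hDb)).trans
      (G_centralizes (T := A₁) (W := oc (centralizer (A₁ : Set G)) ⊓ Hb)
        (le_sup_left.trans (h.le_cz hb)) inf_le_right h.isPGroup1
        ((odd_oc _).of_dvd_nat (card_dvd_of_le inf_le_left)) ?_ hL hA)
    exact (le_inf (inf_le_right.trans (le_normalizer_oc _))
      (inf_le_left.trans le_normalizer)).trans inf_normalizer_le_normalizer_inf

theorem le_th {a b : G} (ha : a ∈ A₁ ⊔ A₂) {D : Subgroup G} (hD : D ≤ th A₁ a)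
    (hDn : A₁ ≤ normalizer (D : Set G)) (hDb : D ≤ oc (centralizer ({b} : Set G))) :
    D ≤ th A₁ b := by
  have hDodd : Odd (Nat.card ↥D) :=
    (odd_oc _).of_dvd_nat (card_dvd_of_le (hD.trans (h.th_le ha)))
  rw [← Coprime.commutator_sup_centralizer hDn (h.coprime1 hDodd)
    (Or.inr (Cfsg.Agent.S0205.result hDodd))]
  exact sup_le_sup (commutator_mono hDb le_rfl)
    (le_inf (inf_le_left.trans hDb) ((inf_le_inf hD le_rfl).trans (h.th_fixed ha)))

theorem balance {a b : G} (ha : a ∈ A₁ ⊔ A₂) (hb : b ∈ A₁ ⊔ A₂) (hb1 : b ≠ 1) :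
    th A₁ a ⊓ th A₂ a ⊓ centralizer ({b} : Set G) ≤ th A₁ b ⊓ th A₂ b := by
  have hs : A₂ ⊔ A₁ = A₁ ⊔ A₂ := sup_comm _ _
  set Hb := centralizer ({b} : Set G)
  set D := th A₁ a ⊓ th A₂ a ⊓ Hb
  have hD1 : D ≤ th A₁ a := inf_le_left.trans inf_le_left
  have hD2 : D ≤ th A₂ a := inf_le_left.trans inf_le_right
  have hDn : A₁ ⊔ A₂ ≤ normalizer (D : Set G) :=
    (le_inf ((le_inf (h.th_invariant ha) (hs ▸ h.symm.th_invariant (hs.symm ▸ ha))).trans
      inf_normalizer_le_normalizer_inf)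
      ((h.le_cz hb).trans le_normalizer)).trans inf_normalizer_le_normalizer_inf
  have ha' : a ∈ A₂ ⊔ A₁ := hs.symm ▸ ha
  have hb' : b ∈ A₂ ⊔ A₁ := hs.symm ▸ hb
  have hDK : D ≤ oc (centralizer ({a} : Set G)) := hD1.trans (h.th_le ha)
  have hstep : D ≤ oc Hb := fun x hx => by
    refine G_vanish (W := oc (centralizer ({a} : Set G)) ⊓ Hb) (h.le_cz hb ha) (h.sq ha)
      ((odd_oc _).of_dvd_nat (card_dvd_of_le inf_le_left))
      (le_inf inf_le_right (inf_le_left.trans (oc_le _)))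
      ((le_inf (inf_le_right.trans (le_normalizer_oc _))
        (inf_le_left.trans le_normalizer)).trans inf_normalizer_le_normalizer_inf)
      ⟨hDK hx, hx.2⟩ fun L hL => ?_
    rcases h.sep b hb hb1 L hL with hh | hh
    · exact h.le_cent_of ha hb hD1 inf_le_right (le_sup_left.trans hDn) hL hh hx
    · exact h.symm.le_cent_of ha' hb' hD2 inf_le_right (le_sup_right.trans hDn) hL hh hx
  exact le_inf (h.le_th ha hD1 (le_sup_left.trans hDn) hstep)
    (h.symm.le_th ha' hD2 (le_sup_right.trans hDn) hstep)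

theorem isSignalizerFunctor :
    Cfsg.IsSignalizerFunctor 2 (A₁ ⊔ A₂) (fun a => th A₁ a ⊓ th A₂ a) := by
  refine ⟨fun a ha _ => (inf_le_left.trans (h.th_le ha)).trans (oc_le _), fun a ha _ => ?_,
    fun a ha _ b hb x hx => ?_, fun a ha _ b hb hb1 => h.balance ha hb hb1⟩
  · exact ((odd_oc _).of_dvd_nat
      (card_dvd_of_le (inf_le_left.trans (h.th_le ha)))).not_two_dvd_nat
  · have hs : A₂ ⊔ A₁ = A₁ ⊔ A₂ := sup_comm _ _
    exact ⟨Coprime.conj_mem (h.th_invariant ha hb) hx.1,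
      Coprime.conj_mem (h.symm.th_invariant (hs.symm ▸ ha) (hs.symm ▸ hb)) hx.2⟩

end Hyp

theorem hyp_of_isCoreSeparated {A₁ A₂ : Subgroup G} (hcs : Cfsg.IsCoreSeparated A₁ A₂) :
    Hyp A₁ A₂ := by
  obtain ⟨⟨hc1, hs1⟩, ⟨hc2, hs2⟩, h41, h42, -, -, hcross, hsep⟩ := hcs
  have comm1 : ∀ x ∈ A₁, ∀ y ∈ A₁, x * y = y * x := fun x hx y hy =>
    congrArg Subtype.val (hc1.is_comm.comm ⟨x, hx⟩ ⟨y, hy⟩)
  have comm2 : ∀ x ∈ A₂, ∀ y ∈ A₂, x * y = y * x := fun x hx y hy =>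
    congrArg Subtype.val (hc2.is_comm.comm ⟨x, hx⟩ ⟨y, hy⟩)
  refine ⟨comm1, comm2, hs1, hs2, h41, h42, hcross, fun u hu hu1 L hL => ?_⟩
  haveI : Fact (Nat.Prime 2) := ⟨Nat.prime_two⟩
  obtain ⟨E, ⟨hE, hEL⟩, -⟩ := Components.existsUnique_pComponent (p := 2) hL
  have conv : ∀ A ≤ centralizer ({u} : Set G),
      ⁅E.map (centralizer ({u} : Set G)).subtype, A⁆ ≤ Cfsg.centralizerPPrimeCore 2 u →
      A ≤ cent (centralizer ({u} : Set G)) L := by
    intro A hA hle x hx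
    refine mem_cent.2 ⟨hA hx, mem_centralizer_iff.2 ?_⟩
    rw [← hEL]
    rintro _ ⟨e, he, rfl⟩
    obtain ⟨v, hv, hve⟩ := hle (commutator_mem_commutator (mem_map_of_mem _ he) hx)
    have hev : v = ⁅e, ⟨x, hA hx⟩⁆ := Subtype.ext hve
    refine commutatorElement_eq_one_iff_mul_comm.1 ?_
    rw [← map_commutatorElement, ← hev]
    exact (QuotientGroup.eq_one_iff _).2 hv
  have hle : ∀ A, (A = A₁ ∨ A = A₂) → A ≤ centralizer ({u} : Set G) := by
    have hs : A₁ ⊔ A₂ ≤ centralizer ({u} : Set G) := by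
      have hu' : u ∈ centralizer (A₁ : Set G) ⊓ centralizer (A₂ : Set G) := by
        refine (sup_le (fun x hx => ?_) (fun x hx => ?_) : A₁ ⊔ A₂ ≤ _) hu
        · exact ⟨mem_centralizer_iff.2 fun y hy => comm1 y hy x hx,
            mem_centralizer_iff.2 fun y hy => (hcross x hx y hy).symm⟩
        · exact ⟨mem_centralizer_iff.2 fun y hy => hcross y hy x hx,
            mem_centralizer_iff.2 fun y hy => comm2 y hy x hx⟩
      exact sup_le
        (fun x hx => mem_centralizer_singleton_iff.2 (mem_centralizer_iff.1 hu'.1 x hx))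
        (fun x hx => mem_centralizer_singleton_iff.2 (mem_centralizer_iff.1 hu'.2 x hx))
    rintro A (rfl | rfl)
    · exact le_sup_left.trans hs
    · exact le_sup_right.trans hs
  rcases hsep u hu hu1 E hE with hh | hh
  · exact Or.inl (conv A₁ (hle A₁ (Or.inl rfl)) hh)
  · exact Or.inr (conv A₂ (hle A₂ (Or.inr rfl)) hh)

end Cfsg.Agent.H42.CS
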